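import Mathlib
import Cfsg.Agent.Adj.Base
import Cfsg.Agent.FT.BG3_3
import Cfsg.Agent.GT.RankOneTwo
import Cfsg.Agent.GT.Quasisimple

/-! # A prime adjacent to all others: the general reduction -/

set_option autoImplicit false

namespace Cfsg.Agent.Adj

open Cfsg Subgroup Cfsg.Agent.KF Cfsg.Agent.KF.XS Cfsg.Agent.GT.PG

variable {G A : Type*} [Group G] [Group A] [Finite G] {r s : ℕ}

omit [Finite G] in
theorem dvd_orderOf_of_mem {P : Subgroup G} (hP : IsPGroup r P) (hr : r.Prime) {x : G} (hx : x ∈ P)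
    (h : x ≠ 1) : r ∣ orderOf x := by
  have := Fact.mk hr
  obtain ⟨k, hk⟩ := IsPGroup.iff_orderOf.1 hP ⟨x, hx⟩
  rw [orderOf_mk] at hk
  exact hk ▸ dvd_pow_self r (by rintro rfl; exact h (orderOf_eq_one_iff.1 hk))

theorem has_of_rank (hr : r.Prime) (hs : s.Prime) (h : s ≠ r) {P R : Subgroup G} (h0 : P ≠ ⊥)
    (hP : IsPGroup s P) (hR : IsPGroup r R) (hN : R ≤ normalizer P) (h1 : ¬ PRankLE r 1 R) :
    Has (r * s) G := by
  have := Fact.mk hr
  by_contra hn
  refine h1 (FT.regular_pRankLE_one h0 hN (fun x hx h2 => eq_bot_iff.2 fun y hy => ?_) r)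
  by_contra h3
  exact hn (has_mul (mem_centralizer_singleton_iff.1 hy.2).symm (dvd_orderOf_of_mem hR hr hx h2)
    (dvd_orderOf_of_mem hP hs hy.1 h3) ((Nat.coprime_primes hr hs).2 h.symm))

/-- A non-cyclic `r`-subgroup. -/
def NCy (r : ℕ) (A : Type*) [Group A] : Prop := ∃ B : Subgroup A, IsPGroup r B ∧ ¬ IsCyclic B

theorem NCy.sylow [Fact r.Prime] (h : NCy r A) (π : G →* A) (hπ : Function.Surjective π) :
    ∃ R : Sylow r G, ¬ IsCyclic R := by
  obtain ⟨B, h1, h2⟩ := h
  obtain ⟨Q, hQ⟩ := h1.exists_le_sylow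
  obtain ⟨R, rfl⟩ := Sylow.mapSurjective_surjective hπ r Q
  refine ⟨R, fun _ => h2 ?_⟩
  have : IsCyclic ((R : Subgroup G).map π) := isCyclic_of_surjective _ (π.subgroupMap_surjective _)
  exact isCyclic_of_le (H' := (R : Subgroup G).map π) hQ

theorem frattini [Fact s.Prime] (π : G →* A) (hπ : Function.Surjective π) (P : Sylow s π.ker) :
    Function.Surjective (π.comp (normalizer ((P : Subgroup π.ker).map π.ker.subtype : Set G)).subtype) := by
  rw [← MonoidHom.range_eq_top, ← MonoidHom.map_range, range_subtype]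
  have := congrArg (map π) P.normalizer_sup_eq_top
  rwa [Subgroup.map_sup, (map_eq_bot_iff π.ker).2 le_rfl, sup_bot_eq, ← MonoidHom.range_eq_map,
    MonoidHom.range_eq_top.2 hπ] at this

theorem sylow_ne_bot [hs : Fact s.Prime] {S : Subgroup G} (h : s ∣ Nat.card S) (P : Sylow s S) :
    (P : Subgroup S).map S.subtype ≠ ⊥ := fun e =>
  P.ne_bot_of_dvd_card h ((map_eq_bot_iff_of_injective _ S.subtype_injective).1 e)

theorem has_of_ncy (hr : r.Prime) (hs : s.Prime) (h : s ≠ r) (h2 : r ≠ 2) (π : G →* A)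
    (hπ : Function.Surjective π) (h1 : s ∣ Nat.card π.ker) (hA : NCy r A) : Has (r * s) G := by
  have := Fact.mk hr
  have := Fact.mk hs
  let P : Sylow s π.ker := Sylow.nonempty.some
  obtain ⟨R, hR⟩ := hA.sylow _ (frattini π hπ P)
  refine has_of_rank hr hs h (sylow_ne_bot h1 P) (P.2.map _) (R.2.map (Subgroup.subtype _))
    (map_subtype_le _) fun h3 => hR (isCyclic_of_pRankLE_one_of_odd h2 R.2 ?_)
  exact h3.of_mulEquiv (equivMapOfInjective _ _ (subtype_injective _)).symm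

theorem has_of_rank_one (hr : r.Prime) (hs : s.Prime) (h : s ≠ r) (h2 : s ≠ 2) (π : G →* A)
    (hπ : Function.Surjective π) (h1 : s ∣ Nat.card π.ker) (h3 : PRankLE s 1 π.ker)
    (hA : NCy r A ∨ r ∣ Nat.card (commutator A)) : Has (r * s) G := by
  have := Fact.mk hr
  have := Fact.mk hs
  let P : Sylow s π.ker := Sylow.nonempty.some
  have h4 := frattini π hπ P
  have h5 := sylow_ne_bot h1 P
  have h6 : IsPGroup s ((P : Subgroup π.ker).map π.ker.subtype) := P.2.map _
  have h7 : IsCyclic ((P : Subgroup π.ker).map π.ker.subtype) :=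
    isCyclic_of_pRankLE_one_of_odd h2 h6 (h3.of_le (map_subtype_le _))
  generalize (P : Subgroup π.ker).map π.ker.subtype = Q at *
  obtain ⟨k, hk⟩ := h6.exists_card_eq
  have : IsCyclic (MulAut Q) := by
    have : IsCyclic (ZMod (Nat.card Q))ˣ := by rw [hk]; exact ZMod.isCyclic_units_of_prime_pow s hs h2 k
    exact isCyclic_of_surjective _ (IsCyclic.mulAutMulEquiv Q).symm.surjective
  by_contra hn
  have h8 : ¬ r ∣ Nat.card Q.normalizerMonoidHom.ker := fun h8 => by
    obtain ⟨x, hx⟩ := exists_prime_orderOf_dvd_card' r h8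
    obtain ⟨y, hy, h9⟩ := (bot_or_exists_ne_one Q).resolve_left h5
    have h10 := Q.normalizerMonoidHom_ker.le x.2 y hy
    exact hn (has_mul (x := x.1.1) (y := y) h10.symm (by rw [orderOf_coe, orderOf_coe, hx])
      (dvd_orderOf_of_mem h6 hs hy h9) ((Nat.coprime_primes hr hs).2 h.symm))
  rcases hA with hA | hA
  · obtain ⟨R, hR⟩ := hA.sylow _ h4
    refine hR (isCyclic_of_injective (Q.normalizerMonoidHom.comp (Subgroup.subtype _))
      ((injective_iff_map_eq_one _).2 fun x hx => ?_))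
    by_contra h9
    exact h8 ((dvd_orderOf_of_mem R.2 hr x.2 (by simpa using h9)).trans
      (Q.normalizerMonoidHom.ker.orderOf_dvd_natCard hx))
  · refine h8 (hA.trans (dvd_trans ?_ (card_dvd_of_le (H := commutator _)
      (commutator_le.2 fun a _ b _ => ?_))))
    · have := map_commutator_eq _ (π.comp (normalizer (Q : Set G)).subtype)
      rw [MonoidHom.range_eq_top.2 h4, ← commutator_def] at this
      exact this ▸ card_map_dvd _ _
    · rw [MonoidHom.mem_ker, map_commutatorElement, commutatorElement_eq_one_iff_mul_comm]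
      exact IsCyclic.isMulCommutative.1.1 _ _

theorem exists_prime_of_not_isCyclic (h : ¬ IsCyclic G) :
    ∃ r, r.Prime ∧ (NCy r G ∨ r ≠ 2 ∧ r ∣ Nat.card (commutator G)) := by
  by_cases h1 : IsZGroup G
  · obtain ⟨r, hr, h2⟩ := Nat.exists_prime_and_dvd (n := Nat.card (commutator G)) fun e => by
      have := (commutator_eq_bot_iff_center_eq_top G).1 (card_eq_one.1 e)
      have : IsMulCommutative G := ⟨⟨fun a b => (mem_center_iff.1 (this.ge (mem_top b)) a)⟩⟩
      let _ : CommGroup G := { ‹Group G› with mul_comm := fun a b => mul_comm' a b }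
      exact h inferInstance
    refine ⟨r, hr, .inr ⟨?_, h2⟩⟩
    rintro rfl
    let P : Sylow 2 G := Sylow.nonempty.some
    have h3 := IsCyclic.normalizer_le_centralizer (P := P)
      (Nat.minFac_eq_two_iff _ |>.2 (h2.trans (card_subgroup_dvd_card _))) inferInstance
    exact MonoidHom.not_dvd_card_ker_transferSylow P h3
      (h2.trans (card_dvd_of_le (commutator_le.2 fun a _ b _ => by
        rw [MonoidHom.mem_ker, map_commutatorElement, commutatorElement_eq_one_iff_mul_comm]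
        exact IsCyclic.isMulCommutative.1.1 _ _)))
  · rw [isZGroup_iff] at h1
    push Not at h1
    obtain ⟨r, hr, P, hP⟩ := h1
    exact ⟨r, hr, .inl ⟨P, P.2, hP⟩⟩

theorem exists_conj_prime {C B : Subgroup G} (hr : r.Prime) (hB : IsPGroup r B) (h : ¬ IsCyclic B)
    (hC : ¬ r ^ 2 ∣ C.index) : ∃ c ∈ C, orderOf c = r ∧ ∃ g, g * c * g⁻¹ ∈ B := by
  have := Fact.mk hr
  obtain ⟨k, hk⟩ := hB.exists_card_eq
  have h1 : r ^ 2 ∣ Nat.card B := hk ▸ pow_dvd_pow r (by
    by_contra h2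
    obtain rfl | rfl : k = 0 ∨ k = 1 := by omega
    · have := (Nat.card_eq_one_iff_unique.1 hk).1
      exact h isCyclic_of_subsingleton
    · exact h (isCyclic_of_prime_card (hk.trans (pow_one r))))
  obtain ⟨x, hx⟩ : ∃ x : G ⧸ C, MulAction.stabilizer B x ≠ ⊥ := by
    by_contra! h2
    rw [index, Nat.card_congr (MulAction.selfEquivOrbitsQuotientProd h2), Nat.card_prod] at hC
    exact hC (h1.mul_left _)
  obtain ⟨g, rfl⟩ := QuotientGroup.mk_surjective x
  obtain ⟨b, h2, h3⟩ := (bot_or_exists_ne_one _).resolve_left hx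
  have h4 : g⁻¹ * b⁻¹ * g ∈ C := by
    have := QuotientGroup.eq.1 (show ((b * g : G) : G ⧸ C) = g from h2)
    rwa [mul_inv_rev] at this
  have h5 := dvd_orderOf_of_mem hB hr (inv_mem b.2) (by simpa using h3)
  refine ⟨_, pow_mem h4 (orderOf (b : G)⁻¹ / r), ?_, g, ?_⟩
  · rw [← MulAut.conj_inv_apply, ← map_pow, MulEquiv.orderOf_eq]
    exact orderOf_pow_orderOf_div (orderOf_pos _).ne' h5
  · rw [← conj_pow]
    simpa [mul_assoc] using pow_mem b.2 _

/-- If `H / Inn K` is not cyclic, some prime divisor of its order is adjacent to all other primes. -/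
def Nc (K : Type*) [Group K] : Prop :=
  IsSimpleGroup K → center K = ⊥ → ∀ H : Subgroup (MulAut K), Inn K ≤ H →
    ¬ IsCyclic (H.map (QuotientGroup.mk' (Inn K))) → ∃ r, r.Prime ∧
      r ∣ Nat.card (H.map (QuotientGroup.mk' (Inn K))) ∧ ¬ PRankLE r 1 H ∧
      ∀ s, s.Prime → s ≠ r → s ∣ Nat.card H → Has (r * s) H

/-- The exceptional way to an element of order `r s`. -/
def Ex (K : Type*) [Group K] (r s : ℕ) : Prop :=
  ¬ r ^ 2 ∣ Nat.card (Out K) ∧ ∃ δ : MulAut K, r * s ∣ orderOf δ ∧ δ ^ r ∈ Inn K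

variable {K L : Type*} [Group K] [Group L]

theorem Nc.of_equiv (e : K ≃* L) (h : Nc L) : Nc K := fun h1 h2 H hH hn => by
  let E := MulAut.congr e
  have e' := E.subgroupMap H
  have e2 : (H.map E.toMonoidHom).map (QuotientGroup.mk' (Inn L)) =
      (H.map (QuotientGroup.mk' (Inn K))).map (QT.outCongr e).toMonoidHom := by
    rw [map_map, map_map]
    rfl
  have e3 : H.map (QuotientGroup.mk' (Inn K)) ≃* (H.map E.toMonoidHom).map (QuotientGroup.mk' (Inn L)) :=
    e2 ▸ (QT.outCongr e).subgroupMap _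
  have e4 : center L = ⊥ := eq_bot_iff.2 fun z hz => by
    obtain ⟨z, rfl⟩ := e.surjective z
    rw [show z = 1 from h2.le (mem_center_iff.2 fun g => e.injective (by
      rw [map_mul, map_mul, mem_center_iff.1 hz])), map_one]
    exact one_mem _
  obtain ⟨r, k1, k2, k3, k4⟩ := h e.symm.isSimpleGroup e4 (H.map E.toMonoidHom)
    (by rintro _ ⟨x, rfl⟩; exact ⟨_, hH ⟨e.symm x, rfl⟩, by ext; simp [E]⟩)
    fun _ => hn (isCyclic_of_surjective _ e3.symm.surjective)
  exact ⟨r, k1, Nat.card_congr e3.toEquiv ▸ k2, fun k => k3 (k.of_mulEquiv e'),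
    fun s hs k k' => (k4 s hs k (Nat.card_congr e'.toEquiv ▸ k')).of_equiv e'.symm⟩

theorem Nc.of_isCyclic (h : IsCyclic (Out K)) : Nc K := fun _ _ _ _ hn => (hn inferInstance).elim

variable [Finite K] {H : Subgroup (MulAut K)} (hZ : center K = ⊥) (hH : Inn K ≤ H)
include hZ hH

omit hZ in
theorem Ex.has (h : Ex K r s) (hr : r.Prime)
    (ha : r ∣ Nat.card (H.map (QuotientGroup.mk' (Inn K)))) : Has (r * s) H := by
  have := Fact.mk hr
  obtain ⟨h2, δ, h3, h4⟩ := h
  by_cases h6 : δ ∈ Inn K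
  · exact ⟨⟨δ, hH h6⟩, by rwa [← orderOf_coe]⟩
  have h7 : orderOf (QuotientGroup.mk' (Inn K) δ) = r := orderOf_eq_prime
    (by rw [← map_pow]; exact (QuotientGroup.eq_one_iff _).2 h4)
    (mt (QuotientGroup.eq_one_iff _).1 h6)
  obtain ⟨g, hg⟩ := exists_conj_le (r := r) (H := H.map (QuotientGroup.mk' (Inn K)))
    (P := zpowers (QuotientGroup.mk' (Inn K) δ)) (fun hd => h2 (by
      rw [← card_mul_index, sq]
      exact mul_dvd_mul ha hd))
    (IsPGroup.of_card (n := 1) (by rw [Nat.card_zpowers, h7, pow_one]))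
  obtain ⟨y, hy⟩ := exists_conj_mem hH (hg _ (mem_zpowers _))
  exact ⟨⟨_, hy⟩, by rwa [orderOf_mk, ← MulAut.conj_apply, MulEquiv.orderOf_eq]⟩

omit [Finite K] in
theorem nonempty_ker_equiv : Nonempty (K ≃* ((QuotientGroup.mk' (Inn K)).subgroupMap H).ker) := by
  rw [Subgroup.ker_subgroupMap, QuotientGroup.ker_mk']
  exact ⟨(MonoidHom.ofInjective (conj_injective hZ)).trans (subgroupOfEquivOfLe hH).symm⟩

omit hH [Finite K] in
theorem quasi [IsSimpleGroup K] : IsQuasisimple K :=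
  .of_isSimpleGroup fun hc => (IsSimpleGroup.toNontrivial (G := K)).1.elim
    fun a ⟨b, hab⟩ => hab ((hZ.le (mem_center_iff.2 fun g => hc.1.1 g a)).trans
      (hZ.le (mem_center_iff.2 fun g => hc.1.1 g b)).symm)

omit hH in
theorem not_rank_two [IsSimpleGroup K] (h1 : 2 ∣ Nat.card K) : ¬ PRankLE 2 1 K := fun h => by
  obtain ⟨z, hz⟩ := exists_prime_orderOf_dvd_card' 2 h1
  have h4 := (quasi hZ).mem_center_of_rank_one (GT.eq_of_commute_of_pRankLE_one h) hz
  rw [show z = 1 from hZ.le h4, orderOf_one] at hz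
  omega

theorem not_rank [IsSimpleGroup K] (hr : r.Prime) (h1 : r ∣ Nat.card K)
    (h2 : r ∣ Nat.card (H.map (QuotientGroup.mk' (Inn K)))) : ¬ PRankLE r 1 H := fun h => by
  have := Fact.mk hr
  have hq := quasi hZ
  obtain ⟨e⟩ := nonempty_ker_equiv hZ hH
  set π := (QuotientGroup.mk' (Inn K)).subgroupMap H
  by_cases h3 : r = 2
  · subst h3
    exact not_rank_two hZ h1 ((h.subgroup _).of_mulEquiv e.symm)
  obtain ⟨a, ha⟩ := exists_prime_orderOf_dvd_card' r h2
  let P : Sylow r ((zpowers a).comap π) := Sylow.nonempty.some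
  have := isCyclic_of_pRankLE_one_of_odd h3 P.2 ((h.subgroup _).subgroup _)
  let ρ := π.subgroupComap (zpowers a)
  have h4 : Function.Surjective ρ :=
    π.subgroupComap_surjective_of_surjective _ (MonoidHom.subgroupMap_surjective _ _)
  rcases P.not_dvd_card_commutator_or_not_dvd_index_commutator with h5 | h5
  · let f : K →* (zpowers a).comap π :=
      (inclusion (ker_le_comap π (zpowers a))).comp e.toMonoidHom
    have h6 : Function.Injective f := (inclusion_injective (ker_le_comap π (zpowers a))).comp e.injective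
    refine h5 (h1.trans (dvd_trans ?_ (card_dvd_of_le (H := (commutator K).map f) ?_)))
    · rw [card_map_of_injective h6, hq.commutator_eq_top, card_top]
    · rw [map_commutator_eq]
      exact commutator_mono le_top le_top
  · refine h5 (dvd_trans ?_ (index_dvd_of_le (K := ρ.ker) (commutator_le.2 fun x _ y _ => ?_)))
    · rw [index_ker, MonoidHom.range_eq_top.2 h4, card_top, Nat.card_zpowers, ha]
    · rw [MonoidHom.mem_ker, map_commutatorElement, commutatorElement_eq_one_iff_mul_comm]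
      exact IsCyclic.isMulCommutative.1.1 _ _

omit hZ hH

variable [Finite A] [IsCyclic A] (φ : A →* MulAut K) (sm : ℕ → Prop)

omit [Finite A] in
theorem Nc.of_cyc
    (h1 : ∀ s, s.Prime → s ∣ ((QuotientGroup.mk' (Inn K)).comp φ).range.index → sm s)
    (h2 : ∀ s, s.Prime → s ∣ Nat.card ((QuotientGroup.mk' (Inn K)).comp φ).ker → sm s)
    (hc : ∀ σ t, (orderOf σ).Prime → ¬ sm (orderOf σ) → t.Prime → sm t →
      ∃ x, φ σ x = x ∧ t ∣ orderOf x)
    (h3 : ∀ s, s.Prime → sm s → s ∣ Nat.card K)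
    (h4 : ∀ r, r.Prime → r ≠ 2 → r ∣ Nat.card (commutator (Out K)) → sm r)
    (h5 : ∀ r s, r.Prime → s.Prime → s ≠ r → ¬ PRankLE s 1 K →
      (r = 2 → 2 ∣ ((QuotientGroup.mk' (Inn K)).comp φ).range.index →
        Has (2 * s) K ∨ ¬ 4 ∣ ((QuotientGroup.mk' (Inn K)).comp φ).range.index ∧
          ∀ σ, orderOf (((QuotientGroup.mk' (Inn K)).comp φ) σ) = 2 →
            ∃ x, φ σ x = x ∧ s ∣ orderOf x) ∧
      (r ≠ 2 → r ∣ Nat.card (commutator (Out K)) → Has (r * s) K ∨ Ex K r s)) : Nc K := by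
  intro hs hZ H hH hn
  set ψ := (QuotientGroup.mk' (Inn K)).comp φ
  obtain ⟨e⟩ := nonempty_ker_equiv hZ hH
  set π := (QuotientGroup.mk' (Inn K)).subgroupMap H
  have hπ : Function.Surjective π := MonoidHom.subgroupMap_surjective _ _
  have key : ∀ s t, s.Prime → t.Prime → ¬ sm s → sm t →
      s ∣ Nat.card (H.map (QuotientGroup.mk' (Inn K))) → Has (s * t) H := by
    intro s t hs ht h3 h4 h5
    have := Fact.mk hs
    obtain ⟨a, h6⟩ := exists_prime_orderOf_dvd_card' s h5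
    rw [← orderOf_coe] at h6
    obtain ⟨g, hg⟩ := exists_conj_le (r := s) (P := zpowers a.1) (mt (h1 s hs) h3)
      (IsPGroup.of_card (n := 1) (by rw [Nat.card_zpowers, h6, pow_one]))
    obtain ⟨σ, hσ⟩ := hg _ (mem_zpowers _)
    have h7 : orderOf (ψ σ) = s := by rw [hσ, ← MulAut.conj_apply, MulEquiv.orderOf_eq, h6]
    have h8 : ψ (σ ^ Nat.card ψ.ker) ≠ 1 := fun e =>
      h3 (h2 s hs (h7 ▸ orderOf_dvd_of_pow_eq_one (by rwa [← map_pow])))
    have h9 : (σ ^ Nat.card ψ.ker) ^ s = 1 := by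
      have : σ ^ s ∈ ψ.ker := by rw [MonoidHom.mem_ker, map_pow, ← h7, pow_orderOf_eq_one]
      rw [← pow_mul, mul_comm, pow_mul]
      exact congrArg Subtype.val (pow_card_eq_one' (x := (⟨_, this⟩ : ψ.ker)))
    have h10 : orderOf (σ ^ Nat.card ψ.ker) = s := orderOf_eq_prime h9 fun e => h8 (by rw [e, map_one])
    obtain ⟨x, h11, h12⟩ := hc _ t (h10 ▸ hs) (h10 ▸ h3) ht h4
    obtain ⟨y, hy⟩ := exists_conj_mem hH (β := φ (σ ^ Nat.card ψ.ker)) (g := g⁻¹) (by
      change g⁻¹ * ψ _ * _ ∈ _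
      rw [map_pow, hσ, conj_pow]
      simpa [mul_assoc] using pow_mem a.2 _)
    refine has_of_conj hZ hH hy h11 (Eq.dvd (orderOf_eq_prime ?_ fun e => h8 ?_).symm) h12
      ((Nat.coprime_primes hs ht).2 (by rintro rfl; exact h3 h4))
    · rw [← map_pow, h9, map_one]
    · rw [MonoidHom.comp_apply, e, map_one]
  have : IsCyclic ψ.range := isCyclic_of_surjective _ ψ.rangeRestrict_surjective
  have k1 : ∀ r, r.Prime → NCy r (H.map (QuotientGroup.mk' (Inn K))) → r ∣ ψ.range.index ∧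
      r ∣ Nat.card (H.map (QuotientGroup.mk' (Inn K))) := by
    rintro r hr ⟨B, k1, k2⟩
    have := Fact.mk hr
    refine ⟨by_contra fun k3 => k2 ?_, ?_⟩
    · obtain ⟨g, hg⟩ := exists_conj_le k3 (k1.map (Subgroup.subtype _))
      exact isCyclic_of_injective (((MulAut.conj g).toMonoidHom.comp ((Subgroup.subtype _).comp
        B.subtype)).codRestrict _ fun b => hg _ ⟨b, b.2, rfl⟩) fun a b h =>
          Subtype.ext (Subtype.ext ((MulAut.conj g).injective (congrArg Subtype.val h)))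
    · obtain ⟨b, hb, k3⟩ := (bot_or_exists_ne_one B).resolve_left (by
        rintro rfl; exact k2 inferInstance)
      exact (dvd_orderOf_of_mem k1 hr hb k3).trans (orderOf_dvd_natCard _)
  have k2 : Nat.card (commutator (H.map (QuotientGroup.mk' (Inn K)))) ∣
      Nat.card (commutator (Out K)) := by
    rw [← card_map_of_injective (subtype_injective _), map_commutator_eq]
    exact card_dvd_of_le (commutator_mono le_top le_top)
  obtain ⟨r, hr, k3⟩ := exists_prime_of_not_isCyclic hn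
  have k4 : sm r := k3.elim (fun h => h1 r hr (k1 r hr h).1) fun h => h4 r hr h.1 (h.2.trans k2)
  have k5 : r ∣ Nat.card (H.map (QuotientGroup.mk' (Inn K))) :=
    k3.elim (fun h => (k1 r hr h).2) fun h => h.2.trans (card_subgroup_dvd_card _)
  refine ⟨r, hr, k5, not_rank hZ hH hr (h3 r hr k4) k5, fun s hs hsr k6 => ?_⟩
  by_cases k7 : s ∣ Nat.card K
  swap
  · rw [← card_mul_index π.ker, index_ker, MonoidHom.range_eq_top.2 hπ, card_top,
      ← Nat.card_congr e.toEquiv] at k6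
    exact (key s r hs hr (mt (h3 s hs) k7) k4 ((hs.dvd_mul.1 k6).resolve_left k7)).comm
  have k8 : s ∣ Nat.card π.ker := Nat.card_congr e.toEquiv ▸ k7
  by_cases k9 : PRankLE s 1 K
  · refine has_of_rank_one hr hs hsr ?_ π hπ k8 (k9.of_mulEquiv e) (k3.imp_right And.right)
    rintro rfl
    exact not_rank_two hZ k7 k9
  obtain ⟨l1, l2⟩ := h5 r s hr hs hsr k9
  rcases k3 with k3 | k3
  · by_cases l3 : r = 2
    swap
    · exact has_of_ncy hr hs hsr l3 π hπ k8 k3
    subst l3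
    refine (l1 rfl (k1 2 hr k3).1).elim (Has.of_inn hZ hH) fun ⟨l4, l5⟩ => ?_
    obtain ⟨B, l6, l7⟩ := k3
    obtain ⟨_, ⟨σ, rfl⟩, l8, g, hg⟩ := exists_conj_prime hr (l6.map (Subgroup.subtype _))
      (fun _ => l7 (isCyclic_of_surjective _
        (B.equivMapOfInjective _ (subtype_injective _)).symm.surjective)) l4
    obtain ⟨x, l9, l10⟩ := l5 σ l8
    obtain ⟨y, hy⟩ := exists_conj_mem hH (β := φ σ) (map_subtype_le _ hg)
    exact has_of_conj hZ hH hy l9
      (l8.symm.dvd.trans (orderOf_map_dvd (QuotientGroup.mk' (Inn K)) (φ σ))) l10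
      ((Nat.coprime_primes hr hs).2 hsr.symm)
  · exact (l2 k3.1 (k3.2.trans k2)).elim (Has.of_inn hZ hH) fun h => h.has hH hr k5

theorem Nc.of_quot {B : Type*} [Group B] (ρ : A →* B) (hρ : Function.Surjective ρ)
    (h : ∀ σ g, MulAut.conj g = φ σ → ρ σ = 1) {m : ℕ} (hm : Nat.card (Out K) ∣ m * Nat.card B)
    (hm' : Nat.card A ∣ m * Nat.card B) (h1 : ∀ s, s.Prime → s ∣ m → sm s)
    (hc : ∀ σ t, (orderOf σ).Prime → ¬ sm (orderOf σ) → ρ σ ≠ 1 → t.Prime → sm t →
      ∃ x, φ σ x = x ∧ t ∣ orderOf x)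
    (h3 : ∀ s, s.Prime → sm s → s ∣ Nat.card K)
    (h4 : ∀ r, r.Prime → r ≠ 2 → r ∣ Nat.card (commutator (Out K)) → sm r)
    (h5 : ∀ r s, r.Prime → s.Prime → s ≠ r → ¬ PRankLE s 1 K →
      (r = 2 → 2 ∣ m → Has (2 * s) K ∨ ¬ 4 ∣ m ∧
          ∀ σ, orderOf (((QuotientGroup.mk' (Inn K)).comp φ) σ) = 2 →
            ∃ x, φ σ x = x ∧ s ∣ orderOf x) ∧
      (r ≠ 2 → r ∣ Nat.card (commutator (Out K)) → Has (r * s) K ∨ Ex K r s)) : Nc K := by
  have := Finite.of_surjective ρ hρ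
  have h2 : ((QuotientGroup.mk' (Inn K)).comp φ).ker ≤ ρ.ker := fun σ hσ => by
    obtain ⟨g, hg⟩ := (QuotientGroup.eq_one_iff _).1 hσ
    exact h σ g hg
  have k3 : ρ.ker.index = Nat.card B := by rw [index_ker, MonoidHom.range_eq_top.2 hρ, card_top]
  have k4 : Nat.card ρ.ker ∣ m := by
    rw [← card_mul_index ρ.ker, k3] at hm'
    exact Nat.dvd_of_mul_dvd_mul_right Nat.card_pos hm'
  have k5 : ((QuotientGroup.mk' (Inn K)).comp φ).range.index ∣ m := by
    have h6 := index_dvd_of_le h2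
    rw [k3, index_ker] at h6
    rw [← index_mul_card] at hm
    exact Nat.dvd_of_mul_dvd_mul_right Nat.card_pos ((Nat.mul_dvd_mul_left _ h6).trans hm)
  exact .of_cyc φ sm (fun s hs h5 => h1 s hs (h5.trans k5))
    (fun s hs h5 => h1 s hs (h5.trans ((card_dvd_of_le h2).trans k4)))
    (fun σ t h5 h6 => hc σ t h5 h6 fun h7 =>
      h6 (h1 _ h5 ((ρ.ker.orderOf_dvd_natCard h7).trans k4))) h3 h4
    fun r s hr hs k k' => (h5 r s hr hs k k').imp_left fun l l1 l2 =>
      (l l1 (l2.trans k5)).imp_right (.imp_left (mt (·.trans k5)))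

theorem Nc.of_field (h : ∀ σ g, MulAut.conj g = φ σ → σ = 1) {m : ℕ}
    (hm : Nat.card (Out K) ∣ m * Nat.card A) (h1 : ∀ s, s.Prime → s ∣ m → sm s)
    (hc : ∀ σ t, (orderOf σ).Prime → ¬ sm (orderOf σ) → t.Prime → sm t →
      ∃ x, φ σ x = x ∧ t ∣ orderOf x)
    (h3 : ∀ s, s.Prime → sm s → s ∣ Nat.card K)
    (h4 : ∀ r, r.Prime → r ≠ 2 → r ∣ Nat.card (commutator (Out K)) → sm r)
    (h5 : ∀ r s, r.Prime → s.Prime → s ≠ r → ¬ PRankLE s 1 K →
      (r = 2 → 2 ∣ m → Has (2 * s) K ∨ ¬ 4 ∣ m ∧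
          ∀ σ, orderOf σ = 2 → ∃ x, φ σ x = x ∧ s ∣ orderOf x) ∧
      (r ≠ 2 → r ∣ Nat.card (commutator (Out K)) → Has (r * s) K ∨ Ex K r s)) : Nc K :=
  .of_quot φ sm (MonoidHom.id A) Function.surjective_id h hm (dvd_mul_left _ _) h1
    (fun σ t h2 h3 _ => hc σ t h2 h3) h3 h4 fun r s hr hs k k' => (h5 r s hr hs k k').imp_left
      fun l l1 l2 => (l l1 l2).imp_right (.imp_right fun l3 σ l4 => l3 σ (by
        rwa [orderOf_injective] at l4
        exact (injective_iff_map_eq_one _).2 fun σ hσ =>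
          ((QuotientGroup.eq_one_iff _).1 hσ).elim (h σ)))

omit [Finite A] [Finite K] in
theorem Nc.of_surj (h : Function.Surjective ((QuotientGroup.mk' (Inn K)).comp φ)) : Nc K :=
  .of_isCyclic (isCyclic_of_surjective _ h)

omit [Finite A] in
theorem Nc.of_card (h : ∀ σ g, MulAut.conj g = φ σ → σ = 1)
    (hm : Nat.card (Out K) = Nat.card A) : Nc K :=
  .of_surj φ ((Nat.bijective_iff_injective_and_card _).2 ⟨(injective_iff_map_eq_one _).2
    fun σ hσ => ((QuotientGroup.eq_one_iff (N := Inn K) _).1 hσ).elim (h σ), hm.symm⟩).2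

end Cfsg.Agent.Adj
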