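import Mathlib
import Cfsg.Agent.KF.XSCl
import Cfsg.Agent.QT.Rank

/-! # Non-cyclic `s`-subgroups of linear groups in characteristic prime to `s` -/

set_option autoImplicit false

namespace Cfsg.Agent.Adj

open Cfsg Subgroup Cfsg.Agent.KF.XS Matrix

section Ide

variable {K E ι : Type*} [Field K] [CommGroup E] [Fintype E] [Fintype ι] [DecidableEq ι]
  (ρ : E →* Matrix ι ι K)

/-- The projection onto a weight space, up to a scalar. -/
noncomputable def ide (χ : E →* Kˣ) : Matrix ι ι K := ∑ g, (χ g⁻¹ : K) • ρ g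

theorem mul_ide (χ : E →* Kˣ) (h : E) : ρ h * ide ρ χ = (χ h : K) • ide ρ χ := by
  rw [ide, Finset.mul_sum, Finset.smul_sum, ← Equiv.sum_comp (Equiv.mulLeft h⁻¹)]
  refine Finset.sum_congr rfl fun g _ => ?_
  simp only [Equiv.coe_mulLeft, mul_smul_comm, ← map_mul, mul_inv_cancel_left, smul_smul,
    ← Units.val_mul, _root_.mul_inv_rev, inv_inv, mul_comm g⁻¹]

theorem ide_mul_ide (χ ψ : E →* Kˣ) :
    ide ρ ψ * ide ρ χ = (∑ g, ((χ * ψ⁻¹) g : K)) • ide ρ χ := by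
  nth_rw 1 [ide]
  rw [Finset.sum_mul, Finset.sum_smul]
  refine Finset.sum_congr rfl fun g _ => ?_
  simp [mul_ide, smul_smul, mul_comm]

theorem card_le_of_ide (hE : (Fintype.card E : K) ≠ 0) (S : Finset (E →* Kˣ))
    (h : ∀ χ ∈ S, ide ρ χ ≠ 0) : S.card ≤ Fintype.card ι := by
  have h1 : ∀ χ : S, ∃ w, ide ρ χ *ᵥ w ≠ 0 := fun χ => by
    by_contra! h1
    exact h _ χ.2 (ext_iff_mulVec.2 fun w => by rw [h1, zero_mulVec])
  choose w hw using h1
  have h2 : LinearIndependent K fun χ : S => ide ρ χ *ᵥ w χ := by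
    refine Fintype.linearIndependent_iff.2 fun c hc ψ => ?_
    have h3 := congrArg (ide ρ ψ *ᵥ ·) hc
    simp only [mulVec_sum, mulVec_smul, mulVec_mulVec, ide_mul_ide, mulVec_zero] at h3
    rw [Finset.sum_eq_single ψ (fun χ _ h4 => ?_) (by simp)] at h3
    · simpa [smul_mulVec, hw, hE] using h3
    · have := sum_hom_units_eq_zero ((Units.coeHom K).comp (χ.1 * ψ.1⁻¹)) fun e => h4
        (Subtype.ext (mul_inv_eq_one.1 (MonoidHom.ext fun g => Units.ext (DFunLike.congr_fun e g))))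
      rw [show ∑ g, ((χ.1 * ψ.1⁻¹) g : K) = 0 from this]
      simp
  simpa using h2.fintype_card_le_finrank

theorem exists_ide [IsAlgClosed K] (hE : (Fintype.card E : K) ≠ 0) {g : E} (hg : ρ g ≠ 1) :
    ∃ χ, ide ρ χ ≠ 0 ∧ χ g ≠ 1 := by
  classical
  have : NeZero (Monoid.exponent E : K) := ⟨fun e => hE (by
    obtain ⟨c, hc⟩ := Group.exponent_dvd_card (G := E)
    rw [hc, Nat.cast_mul, e, zero_mul])⟩
  have h0 := CommGroup.card_monoidHom_of_hasEnoughRootsOfUnity E K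
  have : Finite (E →* Kˣ) := Nat.finite_of_card_ne_zero (h0 ▸ Nat.card_pos.ne')
  have := Fintype.ofFinite (E →* Kˣ)
  have h1 : ∑ χ, ide ρ χ = (Fintype.card E : K) • 1 := by
    simp only [ide]
    rw [Finset.sum_comm, Finset.sum_eq_single 1 (fun h _ h1 => ?_) (by simp)]
    · simp [← Nat.card_eq_fintype_card, h0, Nat.cast_smul_eq_nsmul]
    · obtain ⟨χ, hχ⟩ := CommGroup.exists_apply_ne_one_of_hasEnoughRootsOfUnity E K (inv_ne_one.2 h1)
      have := sum_hom_units_eq_zero ((Units.coeHom K).comp (MonoidHom.eval h⁻¹ : (E →* Kˣ) →* Kˣ))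
        fun e => hχ (Units.ext (DFunLike.congr_fun e χ))
      rw [← Finset.sum_smul, show ∑ χ : E →* Kˣ, (χ h⁻¹ : K) = 0 from this, zero_smul]
  by_contra! h2
  have h3 : ρ g * ∑ χ, ide ρ χ = ∑ χ, ide ρ χ := by
    rw [Finset.mul_sum]
    refine Finset.sum_congr rfl fun χ _ => ?_
    by_cases h4 : ide ρ χ = 0
    · rw [h4, mul_zero]
    · rw [mul_ide, h2 χ h4, Units.val_one, one_smul]
  rw [h1, mul_smul_comm, mul_one] at h3
  exact hg (smul_right_injective _ hE h3)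

theorem rank_closed [IsAlgClosed K] {s : ℕ} [hs : Fact s.Prime] (hK : (s : K) ≠ 0)
    (hρ : Function.Injective ρ) (h1 : ∀ g : E, g ^ s = 1) (h2 : Nat.card E = s ^ 2) {t : ℤ}
    (ht : (t : ZMod s) ≠ 0) (hcl : ∀ χ, ide ρ χ ≠ 0 → ide ρ (χ ^ t) ≠ 0) :
    2 * orderOf (t : ZMod s) ≤ Fintype.card ι := by
  classical
  have hE : (Fintype.card E : K) ≠ 0 := by
    rw [← Nat.card_eq_fintype_card, h2, Nat.cast_pow]
    exact pow_ne_zero _ hK
  have h3 : ∀ g : E, g ≠ 1 → ∃ χ, ide ρ χ ≠ 0 ∧ χ g ≠ 1 := fun g hg =>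
    exists_ide ρ hE fun e => hg (hρ (e.trans ρ.map_one.symm))
  have h4 : ∀ χ, ide ρ χ ≠ 0 → ∀ i : ℕ, ide ρ (χ ^ t ^ i) ≠ 0 := fun χ hχ i => by
    induction i with
    | zero => rwa [show χ ^ t ^ 0 = χ by ext; simp]
    | succ i ih =>
      rw [show χ ^ t ^ (i + 1) = (χ ^ t ^ i) ^ t by ext; simp [pow_succ, _root_.zpow_mul]]
      exact hcl _ ih
  have h5 : ∀ (χ : E →* Kˣ) g, χ g ≠ 1 → ∀ a b : ℤ, χ g ^ a = χ g ^ b → (a : ZMod s) = b :=
    fun χ g hg a b e => by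
      rwa [zpow_eq_zpow_iff_modEq, orderOf_eq_prime (by rw [← map_pow, h1, map_one]) hg,
        ← ZMod.intCast_eq_intCast_iff] at e
  have h6 : ∀ (χ : E →* Kˣ) g, χ g ≠ 1 → ((Finset.range (orderOf (t : ZMod s))).image
      fun i => χ ^ t ^ i).card = orderOf (t : ZMod s) := fun χ g hg => by
    rw [Finset.card_image_of_injOn, Finset.card_range]
    intro i hi j hj e
    have := h5 χ g hg _ _ (DFunLike.congr_fun e g)
    push_cast at this
    exact pow_injOn_Iio_orderOf (by simpa using hi) (by simpa using hj) this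
  have h7 : ¬ IsCyclic E := fun _ => by
    have := IsCyclic.exponent_eq_card (α := E) ▸ Monoid.exponent_dvd_of_forall_pow_eq_one h1
    rw [h2, sq] at this
    have := Nat.le_of_dvd hs.out.pos this
    nlinarith [hs.out.one_lt]
  obtain ⟨x, hx⟩ : ∃ x : E, x ≠ 1 := by
    by_contra! h
    have : Subsingleton E := ⟨fun a b => (h a).trans (h b).symm⟩
    exact h7 inferInstance
  obtain ⟨χ, k1, k2⟩ := h3 x hx
  obtain ⟨y, k3, hy⟩ : ∃ y, χ y = 1 ∧ y ≠ 1 := by
    by_contra! h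
    exact h7 (isCyclic_of_injective_ringHom ((Units.coeHom K).comp χ)
      (Units.val_injective.comp ((injective_iff_map_eq_one _).2 h)))
  obtain ⟨ψ, k4, k5⟩ := h3 y hy
  have h8 := card_le_of_ide ρ hE (((Finset.range (orderOf (t : ZMod s))).image fun i => χ ^ t ^ i) ∪
    ((Finset.range (orderOf (t : ZMod s))).image fun i => ψ ^ t ^ i)) fun ω hω => by
      simp only [Finset.mem_union, Finset.mem_image] at hω
      rcases hω with ⟨i, -, rfl⟩ | ⟨i, -, rfl⟩
      exacts [h4 _ k1 i, h4 _ k4 i]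
  rw [Finset.card_union_of_disjoint, h6 χ x k2, h6 ψ y k5] at h8
  · omega
  refine Finset.disjoint_left.2 fun ω l1 l2 => ?_
  obtain ⟨i, -, rfl⟩ := Finset.mem_image.1 l1
  obtain ⟨j, -, e⟩ := Finset.mem_image.1 l2
  have := h5 ψ y k5 (t ^ j) 0 ((DFunLike.congr_fun e y).trans (by simp [k3]))
  push_cast at this
  exact pow_ne_zero _ ht this

theorem map_ide (φ : K →+* K) {q : ℕ} (hφ : ∀ x, φ x = x ^ q) (χ : E →* Kˣ) :
    (ide ρ χ).map φ = ∑ g, ((χ ^ q) g⁻¹ : K) • (ρ g).map φ := by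
  ext i j
  simp [ide, Matrix.sum_apply, ← hφ]

end Ide

variable {s : ℕ} [hs : Fact s.Prime] {H : Type*} [Group H] [Finite H] {F : Type*} [Field F]
  [Fintype F] {ι : Type*} [Fintype ι] [DecidableEq ι] (h : ¬ PRankLE s 1 H) (ρ : H →* Matrix ι ι F)
  (hρ : Function.Injective ρ) (hF : ¬ s ∣ Fintype.card F)
include h hρ hF

theorem rank_aux {q k : ℕ} (hk : k ≠ 0) (hq : Fintype.card F = q ^ k) :
    ((∀ g, (ρ g).map (· ^ q) = ρ g) → 2 * orderOf (q : ZMod s) ≤ Fintype.card ι) ∧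
    ∀ B : Matrix ι ι F, B.det ≠ 0 → (∀ g, (ρ g)ᵀ * B * (ρ g).map (· ^ q) = B) →
      2 * orderOf (-q : ZMod s) ≤ Fintype.card ι := by
  obtain ⟨E, ⟨h1, h2⟩, h3⟩ := GT.PG.not_pRankLE_iff.1 h
  let _ : CommGroup E := { (inferInstance : Group E) with mul_comm := h1.1.1 }
  have := Fintype.ofFinite E
  obtain ⟨φ, hφ⟩ := exists_frob (F := F) hk hq
  let a := algebraMap F (AlgebraicClosure F)
  let σ : E →* Matrix ι ι (AlgebraicClosure F) := (a.mapMatrix.toMonoidHom.comp ρ).comp E.subtype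
  have h4 : ∀ g, (σ g).map φ = ((ρ g).map (· ^ q)).map a := fun g => by ext; simp [σ, hφ]
  have h0 : (q : ZMod s) ≠ 0 := fun e =>
    hF (hq ▸ ((ZMod.natCast_eq_zero_iff _ _).1 e).trans (dvd_pow_self q hk))
  have h5 := fun t => rank_closed σ (cast_ne_zero hF) (((Matrix.map_injective a.injective).comp
    hρ).comp E.subtype_injective) (fun g => Subtype.ext (h2 g g.2)) h3 (t := t)
  have h6 : ∀ M : Matrix ι ι (AlgebraicClosure F), M.map φ = 0 → M = 0 := fun M e =>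
    Matrix.map_injective φ.injective (e.trans (Matrix.map_zero _ φ.map_zero).symm)
  refine ⟨fun h7 => by
    simpa using h5 q (by simpa) fun χ => mt fun e => h6 _ (by
      rw [map_ide σ φ hφ, ← e]
      exact Finset.sum_congr rfl fun g _ => by rw [h4, h7]; simp [σ]), fun B hB h7 => ?_⟩
  simpa using h5 (-q) (by simpa) fun χ => mt fun e => h6 _ (by
    have h8 : IsUnit (B.map a) := (isUnit_iff_isUnit_det _).2 (by
      rw [← RingHom.mapMatrix_apply, ← RingHom.map_det]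
      exact ((_root_.map_ne_zero _).2 hB).isUnit)
    refine h8.mul_right_eq_zero.1 ?_
    rw [map_ide σ φ hφ, ← zero_mul (B.map a), ← transpose_zero, ← e, ide, transpose_sum,
      Finset.mul_sum, Finset.sum_mul, ← Equiv.sum_comp (Equiv.inv E)]
    refine Finset.sum_congr rfl fun g _ => ?_
    have h9 : (σ g)ᵀ * B.map a = B.map a * (σ g⁻¹).map φ := by
      rw [h4]
      conv_lhs => rw [← h7 (g⁻¹ : E)]
      rw [Matrix.map_mul, Matrix.map_mul, ← Matrix.mul_assoc, ← Matrix.mul_assoc, transpose_map]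
      change (σ g)ᵀ * (σ g⁻¹)ᵀ * _ * _ = _
      rw [← transpose_mul, ← map_mul, inv_mul_cancel, map_one, transpose_one, Matrix.one_mul]
    simp [h9])

theorem rank_lin : 2 * orderOf (Fintype.card F : ZMod s) ≤ Fintype.card ι :=
  (rank_aux h ρ hρ hF one_ne_zero (pow_one _).symm).1 fun g => by
    ext; simp [FiniteField.pow_card]

theorem rank_form (h2 : s ≠ 2) {B : Matrix ι ι F} (hB : B.det ≠ 0)
    (hg : ∀ g, (ρ g)ᵀ * B * ρ g = B) :
    4 * orderOf ((Fintype.card F : ZMod s) ^ 2) ≤ Fintype.card ι := by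
  have h1 := (rank_aux h ρ hρ hF one_ne_zero (pow_one _).symm).2 B hB fun g => by
    convert hg g
    ext; simp [FiniteField.pow_card]
  have h3 := rank_lin h ρ hρ hF
  have := two_mul_orderOf_sq h2 (mt (ZMod.natCast_eq_zero_iff (Fintype.card F) s).1 hF)
  omega

theorem rank_uni {q : ℕ} (hq : Fintype.card F = q ^ 2) (hg : ∀ g, (ρ g)ᵀ * (ρ g).map (· ^ q) = 1) :
    2 * orderOf (-q : ZMod s) ≤ Fintype.card ι :=
  (rank_aux h ρ hρ hF two_ne_zero hq).2 1 (by simp) fun g => by rw [Matrix.mul_one, hg]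

omit hρ hF h in
theorem not_rank_of_quot {N : Subgroup H} [N.Normal] (h2 : s ≠ 2) (h : ¬ PRankLE s 1 (H ⧸ N)) :
    ¬ PRankLE s 1 H :=
  mt (QT.prankLE_one_of_surjective _ (QuotientGroup.mk'_surjective N) hs.out h2) h

end Cfsg.Agent.Adj
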