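import Mathlib
import Cfsg.Agent.Adj.NcBase
import Cfsg.Agent.Adj.NcRep
import Cfsg.Agent.Adj.Tw
import Cfsg.Agent.S0246

/-! # A prime adjacent to all others: linear, unitary and symplectic groups -/

set_option autoImplicit false

namespace Cfsg.Agent.Adj

open Cfsg Subgroup Cfsg.Agent.KF Cfsg.Agent.KF.XS Cfsg.Agent.QT Cfsg.Agent.Cl Cfsg.Agent.Cl.Aut
  Cfsg.Agent.Cl.Cls Matrix

theorem comm_dvd {G B : Type*} [Group G] [Group B] (χ : G →* B) (h : ∀ a b : B, a * b = b * a) :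
    Nat.card (commutator G) ∣ Nat.card χ.ker :=
  card_dvd_of_le (commutator_le.2 fun a _ b _ => by
    rw [MonoidHom.mem_ker, map_commutatorElement, commutatorElement_eq_one_iff_mul_comm, h])

theorem Has.dvd {G : Type*} [Group G] {n : ℕ} (h : Has n G) : n ∣ Nat.card G :=
  h.elim fun x hx => hx.trans (orderOf_dvd_natCard x)

section Spec

variable {K : Type*} [Field K] [IsAlgClosed K] {a : ℤ} {p n t u : ℕ} [hp : Fact p.Prime] [CharP K p]
  (hpa : (p : ℤ) ∣ a) (ha : ∀ t : ℕ, t.Prime → (t : ℤ) ∣ a → t = p)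
include hpa ha

theorem adj_char' (hn : 3 ≤ n) (ht : t.Prime) (h : t ≠ p)
    (h1 : orderOf (a : ZMod t) = 1 ∨ orderOf (a : ZMod t) + 2 ≤ n) :
    (∃ m ∈ ESpec K p a n (· = 1), t * p ∣ m) ∨
      (n = 3 ∧ t = 3 ∧ 3 ∣ (a - 1).natAbs ∧ ¬ 9 ∣ (a - 1).natAbs) := by
  by_cases h2 : orderOf (a : ZMod t) = 1
  · have h3 := dvd_iff_ord.2 h2
    obtain rfl | h4 : n = 3 ∨ 4 ≤ n := by omega
    · by_cases h5 : t = 3
      · subst h5
        by_cases h6 : 9 ∣ (a - 1).natAbs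
        · exact .inl ⟨_, mul_mem_ESpec_three hpa h6, dvd_rfl⟩
        · exact .inr ⟨rfl, rfl, h3, h6⟩
      · refine .inl ⟨_, mul_mem_ESpec_three hpa h3, ?_⟩
        rw [(Nat.coprime_primes Nat.prime_three ht).2 (Ne.symm h5), Nat.div_one]
    · have := mul_mem_ESpec_of_dvd (K := K) hpa h3 two_pos (n - 4)
      exact .inl ⟨_, by rwa [clog_two, show 1 + 1 + 2 + (n - 4) = n by omega] at this, dvd_rfl⟩
  obtain ⟨μ, h0, h3, h4, h5⟩ := exists_orb (K := K) ht h h2
  obtain ⟨h6, -⟩ := ord_le ht (cast_ne ha ht h)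
  have := mem_ESpec_orb_block (D := (· = 1)) h0 h6 h4 two_pos (n - 2 - orderOf (a : ZMod t)) h5
    (h3 ▸ (Nat.coprime_primes ht hp.out).2 h)
  exact .inl ⟨_, by rwa [clog_two, h3, show orderOf (a : ZMod t) + 2 +
    (n - 2 - orderOf (a : ZMod t)) = n by omega] at this, dvd_rfl⟩

theorem adj_rk (hn : 3 ≤ n) (ht : t.Prime) (hu : u.Prime) (htu : t ≠ u) (h : t ≠ p) (h' : u ≠ p)
    (h1 : orderOf (a : ZMod t) = 1)
    (h3 : orderOf (a : ZMod u) = 1 ∨ orderOf (a : ZMod u) + 2 ≤ n) :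
    ∃ m ∈ ESpec K p a n (· = 1), t * u ∣ m := by
  have hc := (Nat.coprime_primes ht hu).2 htu
  by_cases h2 : orderOf (a : ZMod u) = 1
  · have := mul_mem_ESpec_of_dvd (K := K) hpa (hc.mul_dvd_of_dvd_of_dvd (dvd_iff_ord.2 h1)
      (dvd_iff_ord.2 h2)) one_pos (n - 3)
    exact ⟨_, by rwa [show 1 + 1 + 1 + (n - 3) = n by omega] at this, dvd_mul_right _ _⟩
  refine ⟨_, ?_, dvd_rfl⟩
  obtain ⟨μ, h0, h4, h5, h6⟩ := exists_orb (K := K) hu h' h2
  obtain ⟨h7, -⟩ := ord_le hu (cast_ne ha hu h')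
  obtain ⟨ν, h11, rfl⟩ := exists_orderOf_eq (K := K) p ((Nat.coprime_primes ht hp.out).2 h)
  have h12 := (zpow_eq_self_iff h11).2 (dvd_iff_ord.2 h1)
  rw [show n = 1 + 1 + orderOf (a : ZMod u) + (n - 2 - orderOf (a : ZMod u)) by omega]
  refine mem_ESpec ((((isJD_singleton h11 h12 one_pos).add (isJD_singleton (inv_ne_zero h11)
    (by rw [_root_.inv_zpow, h12]) one_pos)).add (isJD_orb_one h0 h5)).add (isJD_ones _))
    (by rw [jdet_add, jdet_add, h6]; simp [jdet, h11]) fun k => ?_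
  rw [jOrd_iff_of_eq_one fun c h => ?_, forall_mem_add,
    and_iff_left (forall_ones _ k), forall_mem_add, forall_orb_iff h7, h4]
  · simp only [forall_mem_add, Multiset.mem_singleton, forall_eq, Nat.clog_one_right, pow_zero,
      one_dvd, and_true, orderOf_dvd_iff_pow_eq_one, inv_pow, inv_eq_one, and_self]
    rw [← orderOf_dvd_iff_pow_eq_one]
    exact ⟨fun h => ⟨(dvd_mul_right _ _).trans h, (dvd_mul_left _ _).trans h⟩,
      fun h => hc.mul_dvd_of_dvd_of_dvd h.1 h.2⟩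
  · have k1 : ν ^ k = c := h (ν, 1) (by simp)
    have k2 : μ ^ k = c := h (μ, 1) (by simp [self_mem_orb μ h7])
    exact orderOf_eq_one_iff.1 (Nat.eq_one_of_dvd_coprimes hc (k1 ▸ orderOf_pow_dvd k)
      (h4 ▸ k2 ▸ orderOf_pow_dvd k))

omit hpa in
theorem ord_two (h : 2 ≠ p) : orderOf (a : ZMod 2) = 1 :=
  Nat.dvd_one.1 (ord_le Nat.prime_two (cast_ne ha Nat.prime_two h)).2

end Spec

theorem nc_eps {G A : Type*} [Group G] [Finite G] [Group A] [Finite A] [IsCyclic A]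
    (φ : A →* MulAut G) (h : ∀ σ g, MulAut.conj g = φ σ → σ = 1) {K : Type*} [Field K]
    [IsAlgClosed K] {a : ℤ} {p n c : ℕ} [hp : Fact p.Prime] [CharP K p] (hpa : (p : ℤ) ∣ a)
    (ha : ∀ t : ℕ, t.Prime → (t : ℤ) ∣ a → t = p) (hn : 3 ≤ n)
    (h1 : Set.range (orderOf : G → ℕ) = ESpec K p a n (· = 1)) (hc : c ∣ 2)
    (h2 : Nat.card (Out G) ∣ c * n.gcd (a - 1).natAbs * Nat.card A)
    (h3 : Nat.card (commutator (Out G)) ∣ n.gcd (a - 1).natAbs)
    (h4 : 3 ∣ Nat.card A → ∃ b, a = b ^ 3)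
    (h5 : ∀ t, t.Prime → t ≠ p → t ≠ 2 → ¬ PRankLE t 1 G → 2 * orderOf (a : ZMod t) ≤ n)
    (h6 : ∀ σ t, Odd (orderOf σ) → t.Prime → t = p ∨ t ≤ n → ∃ x, φ σ x = x ∧ t ∣ orderOf x)
    (h7 : n = 3 → 3 * p ∈ ESpec K p a n (fun _ => True) →
      ∃ y : MulAut G, 3 * p ∣ orderOf y ∧ y ^ n.gcd (a - 1).natAbs ∈ Inn G)
    (h8 : 2 ∣ c → ∀ σ, ∃ x, φ σ x = x ∧ 3 ∣ orderOf x) : Nc G := by
  have k1 : 2 = p ∨ 2 * orderOf (a : ZMod 2) ≤ n := or_iff_not_imp_left.2 fun h => by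
    rw [ord_two ha h]; omega
  have k2 : ∀ s, s ∣ n.gcd (a - 1).natAbs → s * orderOf (a : ZMod s) ≤ n := fun s h => by
    rw [dvd_iff_ord.1 (h.trans (Nat.gcd_dvd_right _ _)), mul_one]
    exact Nat.le_of_dvd (by omega) (h.trans (Nat.gcd_dvd_left _ _))
  have k3 : ∀ t, t.Prime → t = p ∨ t * orderOf (a : ZMod t) ≤ n → t = p ∨ t ≤ n := fun t ht k =>
    or_iff_not_imp_left.2 fun k' =>
      (Nat.le_mul_of_pos_right _ (ord_le ht (cast_ne ha ht k')).1).trans (k.resolve_left k')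
  have k4 : ∀ s, s.Prime → s ≠ p → ¬ PRankLE s 1 G →
      orderOf (a : ZMod s) = 1 ∨ orderOf (a : ZMod s) + 2 ≤ n := fun s hs k k' => by
    by_cases e : s = 2
    · subst e
      exact .inl (ord_two ha k)
    · have := h5 s hs k e k'
      have := (ord_le hs (cast_ne ha hs k)).1
      omega
  have k5 : ∀ r s, r.Prime → s.Prime → s ≠ r → r ≠ p → orderOf (a : ZMod r) = 1 →
      ¬ PRankLE s 1 G → Has (r * s) G ∨ r ≠ 2 ∧ Ex G r s := fun r s hr hs k l1 l2 l3 => by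
    by_cases e : s = p
    swap
    · exact .inl (has_of_spec h1 (adj_rk hpa ha hn hr hs k.symm l1 e l2 (k4 s hs e l3)))
    subst e
    refine (adj_char' (K := K) hpa ha hn hr l1 (.inl l2)).imp (has_of_spec h1) ?_
    rintro ⟨rfl, rfl, k5, k6⟩
    rw [Nat.gcd_eq_left k5] at h2 h7
    refine ⟨by norm_num, fun h => ?_, h7 rfl (three_mem hpa k5)⟩
    obtain ⟨b, hb⟩ := h4 (by
      have := h.trans (h2.trans (mul_dvd_mul_right (mul_dvd_mul_right hc 3) _))
      omega)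
    exact (not_cube k5 k6).1 b hb
  refine .of_field φ (fun t => t = p ∨ t * orderOf (a : ZMod t) ≤ n) h h2 (fun s hs h => ?_)
    (fun σ t l3 l4 l5 l6 => h6 σ t (l3.odd_of_ne_two fun e => l4 (e ▸ k1)) l5 (k3 t l5 l6))
    (fun s hs k => (has_of_spec h1 (mem_spec_of_le hpa ha hn hs (k3 s hs k))).dvd)
    (fun r _ _ k => .inr (k2 r (k.trans h3))) fun r s hr hs k k' => ⟨?_, fun _ l => ?_⟩
  · rcases hs.dvd_mul.1 h with h | h
    · rwa [(Nat.prime_dvd_prime_iff_eq hs Nat.prime_two).1 (h.trans hc)]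
    · exact .inr (k2 s h)
  · rintro rfl l
    by_cases e : 2 = p
    swap
    · exact .inl ((k5 2 s hr hs k e (ord_two ha e) k').resolve_right fun h => h.1 rfl)
    subst e
    refine (adj_char' (K := K) hpa ha hn hs k (k4 s hs k k')).imp
      (fun h => (has_of_spec h1 h).comm) ?_
    rintro ⟨rfl, rfl, l1, -⟩
    rw [Nat.gcd_eq_left l1] at l ⊢
    exact ⟨fun h => absurd (h.trans (mul_dvd_mul_right hc 3)) (by norm_num),
      fun σ _ => h8 (by omega) σ⟩
  · have l1 := (l.trans h3).trans (Nat.gcd_dvd_right _ _)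
    refine (k5 r s hr hs k ?_ (dvd_iff_ord.1 l1) k').imp_right And.right
    rintro rfl
    exact hr.one_lt.ne' (Nat.eq_one_of_dvd_coprimes (coprime_natAbs_sub_one hpa) l1 dvd_rfl)

variable {F : Type} [Field F] [Fintype F]

theorem rank_psl {n t : ℕ} (ht : t.Prime) (h1 : ¬ t ∣ Fintype.card F) (h2 : t ≠ 2)
    (h : ¬ PRankLE t 1 (ProjectiveSpecialLinearGroup (Fin n) F)) :
    2 * orderOf (Fintype.card F : ZMod t) ≤ n := by
  have := Fact.mk ht
  simpa using rank_lin (not_rank_of_quot h2 h) (slToMat n F)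
    (Units.val_injective.comp SpecialLinearGroup.toGL_injective) h1

theorem nc_psl3 {n : ℕ} (hn : 3 ≤ n) : Nc (ProjectiveSpecialLinearGroup (Fin n) F) := by
  have : Nontrivial (Fin n) := Fin.nontrivial_iff_two_le.2 (by omega)
  obtain ⟨p, f, hp, _, hf, hF⟩ := exists_char F
  have := Fact.mk hp
  have : NeZero f := ⟨by omega⟩
  have hA := card_ringAut (F := F) (p := p) (f := f) (by rw [Nat.card_eq_fintype_card, hF])
  have h0 : ((Fintype.card F : ℤ) - 1).natAbs = Nat.card F - 1 := by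
    rw [Nat.card_eq_fintype_card]; have := Fintype.card_pos (α := F); omega
  obtain ⟨φ, h1, -, hc⟩ := S2601.result hf hF hn
  have h3 : ∀ σ t, t.Prime → t = p ∨ t ≤ n → ∃ x, (fdL (Fin n) F).fld σ x = x ∧ t ∣ orderOf x :=
    fun σ t ht h2 => fd_fix _ (exists_fixF σ) sl_toGL_injective
      (fun s => exists_toGL (by simp [det_glMap])) (has_psl p hn ht h2)
  refine nc_eps (fdL _ F).fld (fd_conj_ne _) (char_dvd_card F p)
    (fun t ht => hF ▸ eq_of_dvd_pow hp ht) hn (range_orderOf_PSL_fin (AlgebraicClosure F) p n)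
    dvd_rfl (Eq.dvd ?_) ?_ ?_ (fun t ht h2 h3 h4 => ?_) (fun σ t _ => h3 σ t) (fun _ h2 => ?_)
    fun _ σ => h3 σ 3 Nat.prime_three (.inr hn)
  · rw [card_out_of_hom φ h1, hA, hc, h0, Nat.card_eq_fintype_card (α := F), hF]
    simp [mul_comm, mul_left_comm]
  · rw [h0, Nat.card_eq_fintype_card (α := F), hF, ← hc]
    exact comm_dvd φ mul_comm
  · rw [hA, hF]
    rintro ⟨k, rfl⟩
    exact ⟨p ^ k, by push_cast; ring⟩
  · simpa using rank_psl ht (not_dvd_card p ht h2) h3 h4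
  · refine exists_exc (psiD _ F) (fun g hg => ?_) _ ker_det_map_psiD
      (by rw [index_map_det_ker_psiD, h0, Fintype.card_fin])
      (has_of_range ((range_orderOf_PGL_fin _ p n).ge h2))
    obtain ⟨c, rfl⟩ := ker_psiD.le hg
    exact mem_center_iff.2 fun g => (scal_comm _ _).symm

theorem nc_psu {n q : ℕ} (hF : Fintype.card F = q ^ 2) (hn : 3 ≤ n) (h : ¬ (n = 3 ∧ q = 2)) :
    Nc (PSU n F q) := by
  have : Nontrivial (Fin n) := Fin.nontrivial_iff_two_le.2 (by omega)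
  obtain ⟨p, f, hp, _, hf, rfl⟩ := exists_char_sq hF
  have := Fact.mk hp
  have : NeZero (2 * f) := ⟨by omega⟩
  obtain ⟨τ, hq⟩ := exists_uField hF
  have hA := card_ringAut (F := F) (p := p) (f := 2 * f)
    (by rw [Nat.card_eq_fintype_card, hF, ← pow_mul, mul_comm])
  have h0 : (-((p ^ f : ℕ) : ℤ) - 1).natAbs = p ^ f + 1 := by omega
  obtain ⟨φ, h1, -, hc⟩ := S2603.result hf rfl hF hn h
  refine nc_eps (fdU hq hn).fld (fd_conj_ne _) (char_dvd_neg hq p)
    (fun t ht h => eq_of_dvd_pow hp ht (dvd_neg.1 h)) hn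
    (range_orderOf_PSU (AlgebraicClosure F) p hq (by omega)) (one_dvd _)
    ?_ ?_ ?_ (fun t ht h2 h3 h4 => ?_) (fun σ t hσ ht h2 => ?_) (fun _ h2 => ?_) (by simp)
  · rw [card_out_of_hom φ h1, hA, hc, h0]
    simp
  · rw [h0, ← hc]
    exact comm_dvd φ mul_comm
  · rw [hA]
    intro h
    obtain ⟨k, rfl⟩ : 3 ∣ f := by omega
    exact ⟨-p ^ k, by push_cast; ring⟩
  · have := Fact.mk ht
    simpa using rank_uni (not_rank_of_quot h3 h4) ((slToMat n F).comp (SU n F _).subtype)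
      ((Units.val_injective.comp SpecialLinearGroup.toGL_injective).comp (subtype_injective _))
      (not_dvd_card p ht h2) hF fun g => by
        ext i j
        have := g.2 (Pi.single i 1) (Pi.single j 1)
        simp only [hermForm, Matrix.mulVec_single_one] at this
        rw [Matrix.mul_apply]
        refine Eq.trans (Finset.sum_congr rfl fun k _ => rfl) (this.trans ?_)
        simp [Pi.single_apply, Matrix.one_apply, hp.ne_zero, eq_comm]
  · obtain ⟨-, h4, h6⟩ := exists_unitary_subfield hq (σ := σ) hσ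
    obtain ⟨τ₀, e, hq₀, he, hc⟩ := h6 (fixF σ) h4
    exact fd_fix _ he suGL_injective (fun s => exists_suGL_eq ((glMap_mem_GU_iff hq hq₀ hc).2
      (suGL_mem s)) (by simp [det_glMap, det_suGL])) (has_of_spec (range_orderOf_PSU
      (AlgebraicClosure (fixF σ)) p hq₀ (by omega)) (mem_spec_of_le (char_dvd_neg hq₀ p)
      (fun t ht h => eq_of_dvd_pow hp ht (dvd_neg.1 h)) hn ht h2))
  · refine exists_exc (fdU hq hn).diag (fun g hg => ?_) _ (ker_detU_map hq hn)
      (by rw [index_map_detU_ker, h0]) (has_of_range ((range_orderOf_PGU _ p hq).ge h2))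
    obtain ⟨-, c, hc⟩ := (fdU hq hn).ker _ hg
    exact mem_center_iff.2 fun k => Subtype.ext (by
      rw [coe_mul, coe_mul, show (g : GL (Fin n) F) = _ from hc, scal_comm])

theorem two_dvd_sl2 (q : ℕ) : 2 ∣ q * (q ^ 2 - 1) := by
  rcases Nat.even_or_odd q with h | h
  · exact h.two_dvd.mul_right _
  · exact (Nat.Odd.sub_odd h.pow odd_one).two_dvd.mul_left _

theorem dvd_char_fix {k : Type*} [Field k] [Finite k] (p : ℕ) [Fact p.Prime] [CharP k p] :
    p ∣ Nat.card k := by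
  have := Fintype.ofFinite k
  obtain ⟨n, -, h⟩ := FiniteField.card k p
  rw [Nat.card_eq_fintype_card, h]
  exact dvd_pow_self p n.ne_zero

theorem dvd_fix_pow {σ : RingAut F} (hσ : orderOf σ = 2) {t e : ℕ}
    (h : orderOf (Fintype.card F : ZMod t) ∣ e) : t ∣ Nat.card (fixF σ) ^ (2 * e) - 1 := by
  rw [pow_mul, ← hσ, ← card_eq_card_fixF_pow, ← ZMod.natCast_eq_zero_iff,
    Nat.cast_sub (Nat.one_le_pow _ _ Nat.card_pos), Nat.cast_pow, Nat.card_eq_fintype_card,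
    orderOf_dvd_iff_pow_eq_one.1 h, Nat.cast_one, sub_self]

theorem nc_psl2 (h : 4 ≤ Fintype.card F) : Nc (ProjectiveSpecialLinearGroup (Fin 2) F) := by
  obtain ⟨p, f, hp, _, hf, hF⟩ := exists_char F
  have := Fact.mk hp
  have : NeZero f := ⟨by omega⟩
  have hA := card_ringAut (F := F) (p := p) (f := f) (by rw [Nat.card_eq_fintype_card, hF])
  obtain ⟨φ, h1, -, hc⟩ := S2602.result hf hF (hF ▸ h)
  have h2 : Nat.card φ.ker ∣ 2 := hc ▸ Nat.gcd_dvd_left _ _
  have h3 : ∀ σ t, t.Prime → t ∣ Nat.card (fixF σ) * (Nat.card (fixF σ) ^ 2 - 1) →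
      ∃ x, (fdL (Fin 2) F).fld σ x = x ∧ t ∣ orderOf x := fun σ t ht h2 =>
    fd_fix _ (exists_fixF σ) sl_toGL_injective (fun s => exists_toGL (by simp [det_glMap]))
      (has_psl2 ht h2)
  have h4 : ∀ r, r.Prime → r ∣ Nat.card φ.ker → r = 2 := fun r hr k =>
    (Nat.prime_dvd_prime_iff_eq hr Nat.prime_two).1 (k.trans h2)
  have h5 := comm_dvd φ mul_comm
  refine .of_field (fdL _ F).fld (· = 2) (fd_conj_ne _) (m := Nat.card φ.ker) (Eq.dvd ?_) h4
    (fun σ t _ _ ht k => h3 σ t ht (k.dvd.trans (two_dvd_sl2 _)))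
    (fun s hs k => (has_psl2 hs (k.dvd.trans (two_dvd_sl2 _))).dvd) (fun r hr _ k => h4 r hr (k.trans h5))
    fun r s hr hs k k' => ⟨fun e _ => .inr ⟨fun l => absurd (l.trans h2) (by norm_num),
      fun σ hσ => h3 σ s hs ?_⟩, fun e l => absurd (h4 r hr (l.trans h5)) e⟩
  · rw [card_out_of_hom φ h1, hA]
    simp
  by_cases l : s = p
  · exact l ▸ (dvd_char_fix p).mul_right _
  have l1 := not_dvd_card (F := F) p hs l
  have l2 := rank_psl hs l1 (e ▸ k) k'
  have := Fact.mk hs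
  have l3 := orderOf_pos' (mt (ZMod.natCast_eq_zero_iff _ _).1 l1)
  exact (dvd_fix_pow hσ (e := 1) (Eq.dvd (by omega))).mul_left _

theorem nc_psl {n : ℕ} (hn : 2 ≤ n) (h : n = 2 → 4 ≤ Fintype.card F) :
    Nc (ProjectiveSpecialLinearGroup (Fin n) F) := by
  obtain rfl | h3 : n = 2 ∨ 3 ≤ n := by omega
  exacts [nc_psl2 (h rfl), nc_psl3 h3]

theorem has_psp {k : Type*} [Field k] [Finite k] {m t e : ℕ} (ht : t.Prime) (h2 : t ≠ 2)
    (he : e < m) (h : t ∣ Nat.card k ^ (2 * (e + 1)) - 1) : Has t (PSp m k) := by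
  have := Fintype.ofFinite k
  have h1 := card_eq_card_quotient_mul_card_subgroup (center (symplecticGroup (Fin m) k))
  rw [S0246.result rfl m (by omega), sp_card_std] at h1
  refine has_of_dvd_card ht ((ht.dvd_mul.1 (h1 ▸ (h.trans (Finset.dvd_prod_of_mem
    (fun i => Nat.card k ^ (2 * (i + 1)) - 1) (Finset.mem_range.2 he))).mul_left _)).resolve_right ?_)
  exact fun h => h2 ((Nat.prime_dvd_prime_iff_eq ht Nat.prime_two).1 (h.trans (Nat.gcd_dvd_left _ _)))

theorem nc_psp {m : ℕ} (hm : 2 ≤ m) : Nc (PSp m F) := by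
  have : NeZero m := ⟨by omega⟩
  obtain ⟨p, f, hp, _, hf, hF⟩ := exists_char F
  have := Fact.mk hp
  by_cases h : m = 2 ∧ p = 2
  · obtain ⟨rfl, rfl⟩ := h
    exact .of_isCyclic (S2600.result hf hF).1
  obtain ⟨χ, h1, -, hc⟩ := (fdSp F hm).exists_out
    (psiSp_surjective hm fun h1 h2 => h ⟨h1, h2⟩) (multSp_surjective (le_of_lt hm))
    (ker_multSp_map hm)
  have h2 : Nat.card χ.ker ∣ 2 := by rw [hc, index_map_multSp_ker hm]; exact Nat.gcd_dvd_left _ _
  have h3 : ∀ σ t, Has t (PSp m (fixF σ)) → ∃ x, (fdSp F hm).fld σ x = x ∧ t ∣ orderOf x :=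
    fun σ t h => fd_fix _ (exists_fixF σ) spInc_injective (fun s => exists_spInc_eq (by
      rw [coe_glMap, map_gram, coe_spInc, SymplecticGroup.mem_iff'.1 s.2, map_J])) h
  have h4 : ∀ r, r.Prime → r ∣ Nat.card χ.ker → r = 2 := fun r hr k =>
    (Nat.prime_dvd_prime_iff_eq hr Nat.prime_two).1 (k.trans h2)
  have h5 := comm_dvd χ ringAut_comm
  refine .of_field (fdSp F hm).fld (· = 2) (fd_conj_ne _) (card_out_of_hom χ h1).dvd h4
    (fun σ t _ _ ht k => h3 σ t ((psp_pair p hm ht ht (by simp [k]) (by simp [k])).imp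
      fun _ => And.left))
    (fun s hs k => Has.dvd ((psp_pair p hm hs hs (by simp [k]) (by simp [k])).imp fun _ => And.left))
    (fun r hr _ k => h4 r hr (k.trans h5))
    fun r s hr hs k k' => ⟨fun e _ => .inr ⟨fun l => absurd (l.trans h2) (by norm_num),
      fun σ hσ => h3 σ s ?_⟩, fun e l => absurd (h4 r hr (l.trans h5)) e⟩
  by_cases l : s = p
  · exact (psp_pair p hm hs hs (.inl l) (.inl l)).imp fun _ => And.left
  have := Fact.mk hs
  have l1 := not_dvd_card (F := F) p hs l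
  have l2 := rank_lin (not_rank_of_quot (e ▸ k) k') (symplecticGroup (Fin m) F).subtype
    Subtype.val_injective l1
  have l3 := orderOf_pos' (mt (ZMod.natCast_eq_zero_iff _ _).1 l1)
  simp only [Fintype.card_sum, Fintype.card_fin] at l2
  exact has_psp hs (e ▸ k) (e := orderOf (Fintype.card F : ZMod s) - 1) (by omega)
    (dvd_fix_pow hσ (Eq.dvd (by omega)))

end Cfsg.Agent.Adj
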