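import Mathlib
import Cfsg.Agent.Adj.NcLin
import Cfsg.Agent.Adj.Orth

/-! # A prime adjacent to all others: orthogonal groups -/

set_option autoImplicit false

namespace Cfsg.Agent.Adj

open Cfsg Subgroup Cfsg.Agent.KF Cfsg.Agent.KF.XS Cfsg.Agent.QT Cfsg.Agent.Cl Cfsg.Agent.Cl.Aut
  Cfsg.Agent.Cl.OS Matrix QuadraticMap Module

section Blocks

variable {F : Type*} [Field F] [Finite F] {V : Type*} [AddCommGroup V] [Module F V]
  [FiniteDimensional F V] {Q : QuadraticForm F V} {b N j r s : ℕ} {ε d c : ℤˣ}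
  (p : ℕ) [hp : Fact p.Prime] [CharP F p]

theorem tb_char1 (h : TB F b ε d c N j) (hj : 2 ≤ j) : TB F b ε d c p 1 := by
  obtain ⟨V, _, _, _, Q, hQ, h1, g, h2, h3, -, h4⟩ := h
  refine ⟨V, _, _, _, Q, hQ, h1, g, h2, h3, ?_, ?_⟩
  · simpa using h4.pd (p := p) (n := orderOf g) (by rw [← map_pow, pow_orderOf_eq_one, map_one]) 0
      (by rw [pow_zero]; exact hj)
  · obtain ⟨v, h5, h6⟩ := h4
    obtain ⟨j, rfl⟩ : ∃ i, j = i + 1 := ⟨j - 1, by omega⟩
    exact ⟨((specO Q g - 1) ^ j) v, by rwa [pow_one, ← End.mul_apply, ← pow_succ'],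
      fun i hi => by simpa [Nat.lt_one_iff.1 hi] using h6 j (by omega)⟩

theorem exists_unip (ε : ℤˣ) : TB F 2 ε 1 1 p 1 := by
  by_cases h2 : (2 : F) = 0
  · exact tb_char1 p (tb_unip_two' h2 ε 0) le_rfl
  · exact tb_char1 p (tb_unip_odd h2 ε 1) (by norm_num)

theorem exists_tb' [Fintype F] (hs : s.Prime) (h1 : s ≠ p) (h2 : s ≠ 2) :
    ∃ ε, TB F (orderOf ((Fintype.card F : ZMod s) ^ 2)) ε 1 1 s 0 := by
  have := Fact.mk hs
  have h3 := not_dvd_card (F := F) p hs h1
  set k := orderOf ((Fintype.card F : ZMod s) ^ 2)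
  have k1 : 0 < k := orderOf_pos' (pow_ne_zero 2 (mt (ZMod.natCast_eq_zero_iff _ _).1 h3))
  have k4 := (SpO.dvd_pm_iff (r := s) (Fintype.card_pos (α := F)) k).2
    (orderOf_dvd_of_pow_eq_one (by rw [pow_mul, pow_orderOf_eq_one]))
  obtain ⟨b, hb⟩ : ∃ b, s ∣ tor (Fintype.card F) k b := k4.elim (⟨true, ·⟩) (⟨false, ·⟩)
  have h4 := (tb_tor (F := F) k1 b)
  refine ⟨sg b, ?_⟩
  by_cases h5 : (2 : F) = 0
  · exact tb_weak (sp_two h5 ▸ h4) hb
  · obtain ⟨c, hc, -⟩ := two_mul_tor (Nat.odd_iff.2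
      (FiniteField.odd_card_of_char_ne_two (o_ringChar_ne_two h5))) k b
    exact tb_weak (TB.sq (hc ▸ h4)) (((Nat.coprime_primes hs Nat.prime_two).2
      h2).dvd_of_dvd_mul_left (hc ▸ hb))

theorem has_oq_rk [Fintype F] (hQ : (polarBilin Q).Nondegenerate) (hn : 7 ≤ finrank F V)
    (hr : r = 2 ∨ r = 3) (hs : s.Prime) (h : s ≠ r)
    (h' : s = p ∨ s = 2 ∨ 4 * orderOf ((Fintype.card F : ZMod s) ^ 2) ≤ finrank F V) :
    Has (r * s) (OQ Q) := by
  have h1 : r.Prime := by rcases hr with rfl | rfl <;> norm_num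
  have h2 : r = p ∨ r = 2 ∨ 2 * r ≤ finrank F V := by omega
  by_cases h3 : s = p ∨ s = 2
  · exact has_oq_mul p hQ hn h1 hs h.symm h2 (by tauto)
  obtain ⟨ε, h4⟩ := exists_tb' (F := F) p hs (by tauto) (by tauto)
  replace h' : 4 * orderOf ((Fintype.card F : ZMod s) ^ 2) ≤ finrank F V := by tauto
  generalize orderOf ((Fintype.card F : ZMod s) ^ 2) = k at h4 h'
  have h5 := ((Nat.coprime_primes hs h1).2 h).lcm_eq_mul
  obtain ⟨b, δ, h6, h7⟩ := exists_tb (F := F) p hn h1 h2
  by_cases h8 : 2 * (k + b) < finrank F V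
  · have := h4.prod h6
    rw [one_mul, h5] at this
    exact (has_of_tb hQ (by omega) this h8).comm
  obtain ⟨rfl, rfl, h9⟩ : r = p ∧ k = 2 ∧ finrank F V = 2 * 4 := by omega
  obtain ⟨η, hη⟩ := exists_oTy hQ h9
  have := h4.prod (exists_unip r (ε * η))
  rw [← mul_assoc, Int.units_mul_self, one_mul, one_mul, h5] at this
  exact (has_of_blk (by omega) (this.blk hQ hη)).comm

end Blocks

variable {F : Type} [Field F] [Fintype F] {ι : Type} [Fintype ι] [DecidableEq ι]
  {P : QuadraticForm F (ι → F)} (hP : (polarBilin P).Nondegenerate)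
include hP

theorem nc_orth (hn : 7 ≤ Fintype.card ι) {p f : ℕ} [hp : Fact p.Prime]
    (hF : Nat.card F = p ^ f) {φ : quad_ΓO P} (h1 : OFrob φ) (h2 : φ ^ (2 * f) = 1)
    (h3 : Nat.card (Out (POmega F ⇑P)) ∣ 24 * f)
    (h5 : Nat.card (commutator (Out (POmega F ⇑P))) ∣ 24) : Nc (POmega F ⇑P) := by
  have := charP_of_card hF
  have hA := card_ringAut hF
  have hn5 : 5 ≤ Fintype.card ι := by omega
  have h0 : f ≠ 0 := by rw [← hA]; exact Nat.card_pos.ne'
  have : Finite (zpowers φ) :=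
    finite_zpowers.2 (isOfFinOrder_iff_pow_eq_one.2 ⟨_, by omega, h2⟩)
  have h4 := (oData hP hn5).ker_le
  have k0 : ∀ s, s.Prime → s ∣ 24 → s = 2 ∨ s = 3 := fun s hs h => by
    have := Nat.le_of_dvd (by norm_num) h
    have := hs.two_le
    interval_cases s <;> simp_all (config := {decide := true})
  have k5 : ∀ t, t = 2 ∨ t = 3 → t = p ∨ t = 2 ∨ 2 * t ≤ Fintype.card ι := by omega
  have k6 : ∀ r s, r = 2 ∨ r = 3 → s.Prime → s ≠ r → ¬ PRankLE s 1 (POmega F ⇑P) →
      Has (r * s) (POmega F ⇑P) := fun r s hr hs k h => by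
    refine (has_oq_rk p hP (by simpa) hr hs k (or_iff_not_imp_left.2 fun k1 =>
      or_iff_not_imp_left.2 fun k2 => ?_)).of_equiv (pomegaEquivOG P).symm
    have := Fact.mk hs
    rw [Module.finrank_fintype_fun_eq_card]
    refine rank_form (not_rank_of_quot k2 h)
      ((Units.coeHom _).comp ((isometryGroup F P).subtype.comp (Omega F P).subtype))
      (Units.val_injective.comp ((subtype_injective _).comp (subtype_injective _)))
      (not_dvd_card (F := F) p hs k1) k2
      (B := LinearMap.BilinForm.toMatrix' P.polarBilin) (Matrix.nondegenerate_iff_det_ne_zero.1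
        (LinearMap.BilinForm.Nondegenerate.toMatrix' hP)) fun g => ?_
    rw [LinearMap.BilinForm.mul_toMatrix'_mul]
    congr 1
    refine LinearMap.ext₂ fun u v => ?_
    have := fun u => g.1.2 u u
    simp only [Units.coeHom_apply] at this
    simp [QuadraticMap.polar, ← Matrix.mulVec_add, this]
  refine .of_quot ((quad_ψ P).comp (zpowers φ).subtype)
    (fun t => t = 2 ∨ t = 3) ((oData hP hn5).ρ.comp (zpowers φ).subtype)
    (fun σ => ?_) (fun σ g hg => h4 (Subtype.ext (oπ_eq_one_iff.2 ⟨g, hg⟩))) (m := 24) (hA ▸ h3) ?_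
    k0 (fun σ t k1 _ k2 ht h => ?_)
    (fun t ht h => ((has_oq p hP (by simpa) ht (by simpa using k5 t h)).of_equiv
      (pomegaEquivOG P).symm).dvd) (fun r hr _ k => k0 r hr (k.trans h5))
    fun r s hr hs k k' => ⟨fun e _ => .inl (e ▸ k6 r s (.inl e) hs k k'),
      fun _ l => .inl (k6 r s (k0 r hr (l.trans h5)) hs k k')⟩
  · obtain ⟨k, hk⟩ := h1.gen σ
    exact ⟨⟨_, k, rfl⟩, by rw [← hk]; exact map_zpow (oData hP hn5).ρ φ k⟩
  · rw [Nat.card_zpowers, hA]
    exact (orderOf_dvd_of_pow_eq_one h2).trans (mul_dvd_mul_right (by norm_num) _)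
  · have := Fact.mk k1
    obtain ⟨P₀, X, hX⟩ := quad_exists_desc_fixF hP hn5 (γ := σ) k2 k1 (orderOf_eq_prime
      (by rw [← map_pow, ← coe_pow, pow_orderOf_eq_one]; simp)
      fun e => k2 (quad_right_eq_one_of_ψ hP hn5 e))
    exact desc_fix hP hn5 hX (has_oq p (X.nondeg hP) (by simpa) ht (by simpa using k5 t h))

omit hP

theorem comm_ab {G B : Type*} [Group G] [CommGroup B] (e : G ≃* B) :
    Nat.card (commutator G) ∣ 24 :=
  (comm_dvd e.toMonoidHom mul_comm).trans (by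
    rw [(MonoidHom.ker_eq_bot_iff _).2 e.injective, card_bot]; exact one_dvd _)

theorem comm_prod {G X B : Type*} [Group G] [Group X] [CommGroup B] (e : G ≃* X × B)
    (h : Nat.card X ∣ 24) : Nat.card (commutator G) ∣ 24 :=
  (comm_dvd ((MonoidHom.snd X B).comp e.toMonoidHom) mul_comm).trans (dvd_trans
    (card_dvd_of_injective (((MonoidHom.fst X B).comp e.toMonoidHom).comp (Subgroup.subtype _))
      ((injective_iff_map_eq_one _).2 fun x hx =>
        Subtype.ext (e.injective ((Prod.ext (y := 1) hx x.2).trans (map_one e).symm)))) h)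

theorem nc_odd {m : ℕ} (hm : 3 ≤ m) (hF : Odd (Fintype.card F)) :
    Nc (POmega F (quadFormOdd m F)) := by
  obtain ⟨p, f, hp, _, hf, hq⟩ := exists_char F
  have := Fact.mk hp
  have : NeZero f := ⟨by omega⟩
  have h2 : p ≠ 2 := by
    rintro rfl
    exact (Nat.not_odd_iff_even.2 (hq ▸ Nat.even_pow.2 ⟨even_two, by omega⟩)) hF
  obtain ⟨e⟩ := S2604.result hf hq h2 hm
  have hq' : Nat.card F = p ^ f := by rw [Nat.card_eq_fintype_card, hq]
  obtain ⟨φ, h3, h4⟩ := exists_oFrob_odd hq' m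
  refine nc_orth (P := quad_odd m F) (quad_odd_nondeg (o_two_ne_zero_of_odd_card hF))
    (by simp; omega) hq' h3 (by rw [pow_mul', h4, one_pow]) (Nat.card_congr e.toEquiv ▸ ?_)
    (comm_ab e)
  simp [Nat.mul_dvd_mul_iff_right (show 0 < f from hf)]

theorem nc_plus {m : ℕ} (hm : 4 ≤ m) : Nc (POmega F (quadFormPlus m F)) := by
  obtain ⟨p, f, hp, _, hf, hq⟩ := exists_char F
  have := Fact.mk hp
  have : NeZero f := ⟨by omega⟩
  have hq' : Nat.card F = p ^ f := by rw [Nat.card_eq_fintype_card, hq]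
  obtain ⟨φ, h3, h4⟩ := exists_oFrob_plus hq' m
  have key : Nat.card (Out (POmega F (quadFormPlus m F))) ∣ 24 * f ∧
      Nat.card (commutator (Out (POmega F (quadFormPlus m F)))) ∣ 24 := by
    by_cases h2 : p = 2
    · subst h2
      have := S2607.result hf hq hm
      split_ifs at this <;> obtain ⟨e⟩ := this <;> rw [Nat.card_congr e.toEquiv] <;>
        refine ⟨?_, by
          first | exact comm_ab e | exact comm_prod e (by rw [Nat.card_eq_fintype_card]; decide)⟩ <;>
        simp [Nat.mul_dvd_mul_iff_right (show 0 < f from hf), Fintype.card_perm, Nat.factorial]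
    · have := S2608.result hf hq h2 hm
      split_ifs at this <;> obtain ⟨e⟩ := this <;> rw [Nat.card_congr e.toEquiv] <;>
        refine ⟨?_, by
          first | exact comm_ab e | exact comm_prod e (by rw [Nat.card_eq_fintype_card]; decide)⟩ <;>
        simp [Nat.mul_dvd_mul_iff_right (show 0 < f from hf), Fintype.card_perm, Nat.factorial,
          ← mul_assoc, DihedralGroup.card]
  exact nc_orth (P := quad_plus m F) quad_plus_nondeg (by simp; omega) hq' h3
    (by rw [pow_mul', h4, one_pow]) key.1 key.2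

theorem nc_minus {m : ℕ} (hm : 4 ≤ m) {a b : F}
    (hab : ∀ z₁ z₂ : F, z₁ ^ 2 + a * z₁ * z₂ + b * z₂ ^ 2 = 0 → z₁ = 0 ∧ z₂ = 0) :
    Nc (POmega F (quadFormMinus (m - 1) F a b)) := by
  obtain ⟨p, f, hp, _, hf, hq⟩ := exists_char F
  have := Fact.mk hp
  have : NeZero f := ⟨by omega⟩
  have : NeZero (2 * f) := ⟨by omega⟩
  by_cases h2 : p = 2
  · subst h2
    exact .of_isCyclic (S2605.result hf hq hm a b hab).1
  have hq' : Nat.card F = p ^ f := by rw [Nat.card_eq_fintype_card, hq]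
  obtain ⟨φ, h3, w, -, h4⟩ := exists_oFrob_minus hq' (m - 1) hab
  have key : Nat.card (Out (POmega F (quadFormMinus (m - 1) F a b))) ∣ 24 * f ∧
      Nat.card (commutator (Out (POmega F (quadFormMinus (m - 1) F a b)))) ∣ 24 := by
    have := S2606.result hf hq h2 hm a b hab
    split_ifs at this <;> obtain ⟨e⟩ := this <;> rw [Nat.card_congr e.toEquiv] <;>
      refine ⟨?_, by
          first | exact comm_ab e | exact comm_prod e (by rw [Nat.card_eq_fintype_card]; decide)⟩ <;>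
      simp [Nat.mul_dvd_mul_iff_right (show 0 < f from hf), ← mul_assoc, DihedralGroup.card]
  exact nc_orth (P := quad_minus (m - 1) F a b) (o_minus_nondeg hab) (by simp; omega) hq' h3
    (by rw [pow_mul', h4, ← map_pow, ← map_pow, pow_two, orefl_mul_self, map_one, map_one])
    key.1 key.2

end Cfsg.Agent.Adj
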